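import Mathlib
import Groth.Agent.Lib.Helper4.HopfTrace

/-!
# Étale quotient with infinitesimal kernel (helper6), part 1

The shear automorphism and the nilpotency of the diagonal of `H ×_{H''} H`.
-/

set_option autoImplicit false
set_option linter.unusedSectionVars false
set_option linter.unusedVariables false
set_option linter.unusedSimpArgs false
set_option linter.style.haveILetI false
set_option linter.overlappingInstances false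
set_option maxHeartbeats 800000
set_option synthInstance.maxHeartbeats 400000

universe u
open TensorProduct WithConv

namespace Groth.Agent.Lib.Helper6.EtRetr

open Groth.Agent.Helper4.HopfTrace

section shear

variable {k : Type u} [CommRing k] {A : Type u} [CommRing A] [HopfAlgebra k A]

/-- `x ⊗ y ↦ x ε(y)` -/
noncomputable def pr₁ : A ⊗[k] A →ₐ[k] A :=
  Algebra.TensorProduct.lift (AlgHom.id k A)
    ((Algebra.ofId k A).comp (Bialgebra.counitAlgHom k A)) (fun _ _ => Commute.all _ _)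

lemma pr₁_tmul (x y : A) :
    pr₁ (x ⊗ₜ[k] y) = x * algebraMap k A (Coalgebra.counit (R := k) y) := by
  simp [pr₁]

lemma sub_counit_mem' (a : A) :
    a - algebraMap k A (Coalgebra.counit (R := k) a) ∈ RingHom.ker (Bialgebra.counitAlgHom k A) := by
  rw [RingHom.mem_ker, map_sub]
  simp

lemma sub_pr₁_mem (z : A ⊗[k] A) :
    z - (pr₁ z) ⊗ₜ[k] (1 : A) ∈
      Ideal.map (j₂ : A →ₐ[k] A ⊗[k] A) (RingHom.ker (Bialgebra.counitAlgHom k A)) := by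
  induction z using TensorProduct.induction_on with
  | zero => simp
  | tmul x y =>
    have e : x ⊗ₜ[k] y - (pr₁ (x ⊗ₜ[k] y)) ⊗ₜ[k] (1 : A) =
        (x ⊗ₜ[k] (1 : A)) * ((1 : A) ⊗ₜ[k] (y - algebraMap k A (Coalgebra.counit (R := k) y))) := by
      rw [pr₁_tmul, Algebra.TensorProduct.tmul_mul_tmul, mul_one, one_mul, TensorProduct.tmul_sub]
      congr 1
      rw [Algebra.algebraMap_eq_smul_one, TensorProduct.tmul_smul, mul_smul_comm, mul_one,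
        TensorProduct.smul_tmul']
    rw [e]
    apply Ideal.mul_mem_left
    exact Ideal.mem_map_of_mem _ (sub_counit_mem' _)
  | add z w hz hw =>
    have e : z + w - (pr₁ (z + w)) ⊗ₜ[k] (1 : A) =
        (z - (pr₁ z) ⊗ₜ[k] (1 : A)) + (w - (pr₁ w) ⊗ₜ[k] (1 : A)) := by
      rw [map_add, TensorProduct.add_tmul]; ring
    rw [e]
    exact Ideal.add_mem _ hz hw

lemma Φ_one_tmul (a : A) :
    (Φ : A ⊗[k] A →ₐ[A] A ⊗[k] A) ((1 : A) ⊗ₜ[k] a) =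
      (toConv (j₂ : A →ₐ[k] A ⊗[k] A) * toConv (j₁ : A →ₐ[k] A ⊗[k] A)).ofConv a :=
  AlgHom.congr_fun (shear_comp_j₂ (toConv (j₂ : A →ₐ[k] A ⊗[k] A) *
    toConv (j₁ : A →ₐ[k] A ⊗[k] A)).ofConv) a

lemma Ψ_one_tmul (a : A) :
    (Ψ : A ⊗[k] A →ₐ[A] A ⊗[k] A) ((1 : A) ⊗ₜ[k] a) =
      (toConv (j₂ : A →ₐ[k] A ⊗[k] A) * (toConv (j₁ : A →ₐ[k] A ⊗[k] A))⁻¹).ofConv a :=
  AlgHom.congr_fun (shear_comp_j₂ (toConv (j₂ : A →ₐ[k] A ⊗[k] A) *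
    (toConv (j₁ : A →ₐ[k] A ⊗[k] A))⁻¹).ofConv) a

lemma Φ_tmul_one (a : A) :
    (Φ : A ⊗[k] A →ₐ[A] A ⊗[k] A) (a ⊗ₜ[k] (1 : A)) = a ⊗ₜ[k] (1 : A) :=
  (Φ : A ⊗[k] A →ₐ[A] A ⊗[k] A).commutes a

lemma pr₁_Φ_one_tmul (a : A) :
    pr₁ ((Φ : A ⊗[k] A →ₐ[A] A ⊗[k] A) ((1 : A) ⊗ₜ[k] a)) = a := by
  rw [Φ_one_tmul]
  have h2 : (pr₁ : A ⊗[k] A →ₐ[k] A).comp
      (toConv (j₂ : A →ₐ[k] A ⊗[k] A) * toConv (j₁ : A →ₐ[k] A ⊗[k] A)).ofConv =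
      AlgHom.id k A := by
    rw [AlgHom.comp_convMul_distrib]
    have e1 : (pr₁ : A ⊗[k] A →ₐ[k] A).comp (toConv (j₂ : A →ₐ[k] A ⊗[k] A)).ofConv =
        (1 : WithConv (A →ₐ[k] A)).ofConv := by
      ext y
      show pr₁ ((1 : A) ⊗ₜ[k] y) = _
      rw [pr₁_tmul, one_mul]
      rfl
    have e2 : (pr₁ : A ⊗[k] A →ₐ[k] A).comp (toConv (j₁ : A →ₐ[k] A ⊗[k] A)).ofConv =
        AlgHom.id k A := by
      ext y
      show pr₁ (y ⊗ₜ[k] (1 : A)) = _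
      rw [pr₁_tmul]
      simp
    rw [e1, e2, toConv_ofConv, one_mul, ofConv_toConv]
  exact AlgHom.congr_fun h2 a

/-- `Φ (a ⊗ 1 - 1 ⊗ a)` lies in `A ⊗ I` -/
lemma Φ_diag_mem (a : A) :
    (Φ : A ⊗[k] A →ₐ[A] A ⊗[k] A) (a ⊗ₜ[k] (1 : A) - (1 : A) ⊗ₜ[k] a) ∈
      Ideal.map (j₂ : A →ₐ[k] A ⊗[k] A) (RingHom.ker (Bialgebra.counitAlgHom k A)) := by
  have h := sub_pr₁_mem ((Φ : A ⊗[k] A →ₐ[A] A ⊗[k] A) (a ⊗ₜ[k] (1 : A) - (1 : A) ⊗ₜ[k] a))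
  have h0 : pr₁ ((Φ : A ⊗[k] A →ₐ[A] A ⊗[k] A) (a ⊗ₜ[k] (1 : A) - (1 : A) ⊗ₜ[k] a)) = 0 := by
    rw [map_sub, map_sub, Φ_tmul_one, pr₁_Φ_one_tmul, pr₁_tmul]
    simp
  rw [h0, TensorProduct.zero_tmul, sub_zero] at h
  exact h

variable {C : Type u} [CommRing C] [HopfAlgebra k C] (ψ : C →ₐc[k] A)

/-- the ideal of `H ×_{H''} H` in `H × H` -/
def cIdeal : Ideal (A ⊗[k] A) :=
  Ideal.span (Set.range fun c : C => (ψ c) ⊗ₜ[k] (1 : A) - (1 : A) ⊗ₜ[k] (ψ c))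

lemma Ψ_mem (c : C) (hc : c ∈ RingHom.ker (Bialgebra.counitAlgHom k C)) :
    (Ψ : A ⊗[k] A →ₐ[A] A ⊗[k] A) ((1 : A) ⊗ₜ[k] ψ c) ∈ cIdeal ψ := by
  let q : A ⊗[k] A →ₐ[k] (A ⊗[k] A) ⧸ cIdeal ψ := Ideal.Quotient.mkₐ k (cIdeal ψ)
  let f₁ : A →ₐ[k] (A ⊗[k] A) ⧸ cIdeal ψ := q.comp j₁
  let f₂ : A →ₐ[k] (A ⊗[k] A) ⧸ cIdeal ψ := q.comp j₂
  have h12 : f₂.comp (ψ : C →ₐ[k] A) = f₁.comp (ψ : C →ₐ[k] A) := by
    ext c'
    show q ((1 : A) ⊗ₜ[k] ψ c') = q ((ψ c') ⊗ₜ[k] (1 : A))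
    symm
    apply Ideal.Quotient.eq.mpr
    exact Ideal.subset_span ⟨c', rfl⟩
  let f₁S : A →ₐ[k] (A ⊗[k] A) ⧸ cIdeal ψ := f₁.comp (HopfAlgebra.antipodeAlgHom k A)
  have hq : q.comp (toConv (j₂ : A →ₐ[k] A ⊗[k] A) *
      (toConv (j₁ : A →ₐ[k] A ⊗[k] A))⁻¹).ofConv = (toConv f₂ * toConv f₁S).ofConv := by
    rw [AlgHom.comp_convMul_distrib]
    rfl
  have hone : toConv f₁ * toConv f₁S = 1 := by
    have e1 : q.comp (toConv (j₁ : A →ₐ[k] A ⊗[k] A) *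
        (toConv (j₁ : A →ₐ[k] A ⊗[k] A))⁻¹).ofConv = (toConv f₁ * toConv f₁S).ofConv := by
      rw [AlgHom.comp_convMul_distrib]
      rfl
    have key : (toConv (j₁ : A →ₐ[k] A ⊗[k] A) * (toConv (j₁ : A →ₐ[k] A ⊗[k] A))⁻¹ :
        WithConv (A →ₐ[k] A ⊗[k] A)) = 1 :=
      mul_inv_cancel (G := WithConv (A →ₐ[k] A ⊗[k] A)) _
    have e1' : q.comp (1 : WithConv (A →ₐ[k] A ⊗[k] A)).ofConv =
        (toConv f₁ * toConv f₁S).ofConv := by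
      have h := congrArg (fun g : WithConv (A →ₐ[k] A ⊗[k] A) => q.comp g.ofConv) key
      exact h.symm.trans e1
    have e2 : q.comp (1 : WithConv (A →ₐ[k] A ⊗[k] A)).ofConv =
        (1 : WithConv (A →ₐ[k] ((A ⊗[k] A) ⧸ cIdeal ψ))).ofConv := by
      ext y
      show q (algebraMap k (A ⊗[k] A) (Coalgebra.counit (R := k) y)) =
        algebraMap k ((A ⊗[k] A) ⧸ cIdeal ψ) (Coalgebra.counit (R := k) y)
      exact AlgHom.commutes q _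
    rw [e2] at e1'
    exact (WithConv.ofConv_injective e1').symm
  have hcomp : (toConv f₂ * toConv f₁S).ofConv.comp (ψ : C →ₐ[k] A) =
      (1 : WithConv (A →ₐ[k] ((A ⊗[k] A) ⧸ cIdeal ψ))).ofConv.comp (ψ : C →ₐ[k] A) := by
    rw [AlgHom.convMul_comp_bialgHom_distrib, toConv_ofConv, toConv_ofConv, h12,
      ← hone, AlgHom.convMul_comp_bialgHom_distrib, toConv_ofConv, toConv_ofConv]
  rw [Ψ_one_tmul]
  have h1 : q ((toConv (j₂ : A →ₐ[k] A ⊗[k] A) *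
      (toConv (j₁ : A →ₐ[k] A ⊗[k] A))⁻¹).ofConv (ψ c)) = 0 := by
    have h2 := AlgHom.congr_fun hq (ψ c)
    have h3 := AlgHom.congr_fun hcomp c
    rw [AlgHom.comp_apply] at h2
    rw [h2]
    have h4 : (toConv f₂ * toConv f₁S).ofConv (ψ c) =
        (1 : WithConv (A →ₐ[k] ((A ⊗[k] A) ⧸ cIdeal ψ))).ofConv (ψ c) := h3
    rw [h4]
    show algebraMap k ((A ⊗[k] A) ⧸ cIdeal ψ) (Coalgebra.counit (R := k) (ψ c)) = 0
    rw [CoalgHomClass.counit_comp_apply]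
    have : Coalgebra.counit (R := k) c = 0 := hc
    rw [this, map_zero]
  exact Ideal.Quotient.eq_zero_iff_mem.mp h1

/-- the diagonal of `H ×_{H''} H` is nilpotent when the kernel is infinitesimal -/
theorem pow_mem_cIdeal (J : Ideal A)
    (hJ : J = Ideal.map (ψ : C →+* A) (RingHom.ker (Bialgebra.counitAlgHom k C))) (n : ℕ)
    (hn : (RingHom.ker (Bialgebra.counitAlgHom k A)) ^ n ≤ J) (a : A) :
    (a ⊗ₜ[k] (1 : A) - (1 : A) ⊗ₜ[k] a) ^ n ∈ cIdeal ψ := by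
  have h1 : (Φ : A ⊗[k] A →ₐ[A] A ⊗[k] A) ((a ⊗ₜ[k] (1 : A) - (1 : A) ⊗ₜ[k] a) ^ n) ∈
      Ideal.map (j₂ : A →ₐ[k] A ⊗[k] A) J := by
    rw [map_pow]
    have h2 := Ideal.pow_mem_pow (Φ_diag_mem (k := k) a) n
    rw [← Ideal.map_pow] at h2
    exact Ideal.map_mono hn h2
  have h3 : Ideal.map (j₂ : A →ₐ[k] A ⊗[k] A) J ≤
      Ideal.comap (Ψ : A ⊗[k] A →ₐ[A] A ⊗[k] A) (cIdeal ψ) := by
    rw [hJ, Ideal.map_le_iff_le_comap, Ideal.map_le_iff_le_comap]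
    intro c hc
    rw [Ideal.mem_comap, Ideal.mem_comap, Ideal.mem_comap]
    exact Ψ_mem ψ c hc
  have h4 := h3 h1
  rw [Ideal.mem_comap] at h4
  have h5 : (Ψ : A ⊗[k] A →ₐ[A] A ⊗[k] A)
      ((Φ : A ⊗[k] A →ₐ[A] A ⊗[k] A) ((a ⊗ₜ[k] (1 : A) - (1 : A) ⊗ₜ[k] a) ^ n)) =
      (a ⊗ₜ[k] (1 : A) - (1 : A) ⊗ₜ[k] a) ^ n :=
    AlgHom.congr_fun (Ψ_comp_Φ (K := k) (A := A)) _
  rw [h5] at h4
  exact h4

end shear

end Groth.Agent.Lib.Helper6.EtRetr
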