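import Mathlib
import Groth.Agent.Lib.Helper6.EtRetr.ER1
import Groth.Agent.Lib.Helper5.Misc.HopfNil

/-!
# Étale quotient with infinitesimal kernel (helper6), part 2

Every element of `A` is congruent modulo the nilradical to an element of `ψ(C)`.
-/

set_option autoImplicit false
set_option linter.unusedSectionVars false
set_option linter.unusedVariables false
set_option linter.unusedSimpArgs false
set_option linter.style.haveILetI false
set_option linter.overlappingInstances false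
set_option maxHeartbeats 800000
set_option synthInstance.maxHeartbeats 400000

universe u
open TensorProduct

namespace Groth.Agent.Lib.Helper6.EtRetr

section local_

variable {k : Type u} [Field k] {A : Type u} [CommRing A] [HopfAlgebra k A]

/-- the augmentation ideal of a local finitely generated Hopf quotient is nilpotent -/
theorem aug_pow_le [Algebra.FiniteType k A] (J : Ideal A) [J.IsHopfIdeal k]
    [IsLocalRing (A ⧸ J)] :
    ∃ n : ℕ, 0 < n ∧ (RingHom.ker (Bialgebra.counitAlgHom k A)) ^ n ≤ J := by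
  have hJle : J ≤ RingHom.ker (Bialgebra.counitAlgHom k A) := by
    intro j hj
    rw [RingHom.mem_ker]
    exact Submodule.IsCoideal.counit_eq_zero (I := J.restrictScalars k) hj
  haveI : Algebra.FiniteType k (A ⧸ J) :=
    Algebra.FiniteType.of_surjective (Ideal.Quotient.mkₐ k J) (Ideal.Quotient.mkₐ_surjective k J)
  haveI : IsNoetherianRing (A ⧸ J) := Algebra.FiniteType.isNoetherianRing k (A ⧸ J)
  haveI : IsJacobsonRing (A ⧸ J) := isJacobsonRing_of_finiteType (A := k)
  have h1 : Ideal.jacobson (⊥ : Ideal (A ⧸ J)) = IsLocalRing.maximalIdeal (A ⧸ J) :=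
    IsLocalRing.jacobson_eq_maximalIdeal ⊥ bot_ne_top
  have h2 : (nilradical (A ⧸ J)).jacobson = nilradical (A ⧸ J) :=
    IsJacobsonRing.out inferInstance (Ideal.radical_isRadical ⊥)
  have h3 : IsLocalRing.maximalIdeal (A ⧸ J) ≤ nilradical (A ⧸ J) := by
    rw [← h1, ← h2]
    exact Ideal.jacobson_mono bot_le
  obtain ⟨n, hn⟩ := IsNoetherianRing.isNilpotent_nilradical (A ⧸ J)
  set K : Ideal (A ⧸ J) :=
    Ideal.map (Ideal.Quotient.mk J) (RingHom.ker (Bialgebra.counitAlgHom k A)) with hK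
  have hKtop : K ≠ ⊤ := by
    intro htop
    have h4 := Ideal.comap_map_of_surjective (Ideal.Quotient.mk J) Ideal.Quotient.mk_surjective
      (RingHom.ker (Bialgebra.counitAlgHom k A))
    rw [← hK, htop, Ideal.comap_top] at h4
    have h5 : Ideal.comap (Ideal.Quotient.mk J) ⊥ = J := by
      rw [← RingHom.ker_eq_comap_bot, Ideal.mk_ker]
    rw [h5, sup_eq_left.mpr hJle] at h4
    have h6 : (1 : A) ∈ RingHom.ker (Bialgebra.counitAlgHom k A) := by
      rw [← h4]; trivial
    rw [RingHom.mem_ker, map_one] at h6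
    exact one_ne_zero h6
  have h7 : K ≤ nilradical (A ⧸ J) := (IsLocalRing.le_maximalIdeal hKtop).trans h3
  refine ⟨n + 1, Nat.succ_pos n, ?_⟩
  have h8 : K ^ (n + 1) = ⊥ := by
    rw [eq_bot_iff]
    calc K ^ (n + 1) ≤ (nilradical (A ⧸ J)) ^ (n + 1) := Ideal.pow_right_mono h7 _
      _ = ⊥ := by rw [pow_succ, hn]; simp
  rw [hK, ← Ideal.map_pow] at h8
  have h9 := (Ideal.map_eq_bot_iff_le_ker _).mp h8
  rwa [Ideal.mk_ker] at h9

end local_

section star

variable {k : Type u} [Field k] [PerfectField k] {A C : Type u} [CommRing A] [HopfAlgebra k A]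
  [Algebra.FiniteType k A] [CommRing C] [HopfAlgebra k C] [Algebra.Etale k C]

theorem exists_sub_mem_nilradical (ψ : C →ₐc[k] A) (hψ : Function.Injective ψ)
    (J : Ideal A) [J.IsHopfIdeal k]
    (hJ : J = Ideal.map (ψ : C →+* A) (RingHom.ker (Bialgebra.counitAlgHom k C)))
    [IsLocalRing (A ⧸ J)] (a : A) : ∃ c : C, a - ψ c ∈ nilradical A := by
  set N := nilradical A with hN
  haveI : IsReduced (A ⧸ N) :=
    (Ideal.isRadical_iff_quotient_reduced N).1 (Ideal.radical_isRadical ⊥)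
  let π : A →ₐ[k] A ⧸ N := Ideal.Quotient.mkₐ k N
  let g : C →ₐ[k] A ⧸ N := π.comp (ψ : C →ₐ[k] A)
  haveI : IsReduced ((A ⧸ N) ⊗[k] (A ⧸ N)) :=
    Groth.Agent.Lib.Helper5.Misc.HopfNil.isReduced_tensor_of_perfect' k _ _
  obtain ⟨n, hn0, hn⟩ := aug_pow_le (k := k) J
  have hX := pow_mem_cIdeal ψ J hJ n hn a
  haveI : Module.Finite k C := Algebra.FormallyUnramified.finite_of_free k C
  haveI : IsArtinianRing C := IsArtinianRing.of_finite k C
  haveI : IsReduced C := Algebra.FormallyUnramified.isReduced_of_field k C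
  haveI : IsSemisimpleRing C := IsArtinianRing.isSemisimpleRing_of_isReduced C
  let t : C ⊗[k] C := Algebra.FormallyUnramified.elem k C
  let tb : (A ⧸ N) ⊗[k] (A ⧸ N) := Algebra.TensorProduct.map g g t
  have hkill : ∀ z ∈ cIdeal ψ, (Algebra.TensorProduct.map π π z) * tb = 0 := by
    intro z hz
    rw [cIdeal] at hz
    refine Submodule.span_induction ?_ ?_ ?_ ?_ hz
    · rintro _ ⟨c, rfl⟩
      have e1 : Algebra.TensorProduct.map π π ((ψ c) ⊗ₜ[k] (1 : A) - (1 : A) ⊗ₜ[k] (ψ c)) * tb =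
          Algebra.TensorProduct.map g g ((c ⊗ₜ[k] (1 : C) - (1 : C) ⊗ₜ[k] c) * t) := by
        rw [map_mul, map_sub, map_sub]
        simp only [Algebra.TensorProduct.map_tmul, map_one]
        rfl
      rw [e1]
      have e2 : (c ⊗ₜ[k] (1 : C) - (1 : C) ⊗ₜ[k] c) * t = 0 := by
        have := Algebra.FormallyUnramified.one_tmul_sub_tmul_one_mul_elem (R := k) (S := C) c
        rw [← neg_sub, neg_mul, this, neg_zero]
      rw [e2, map_zero]
    · rw [map_zero, zero_mul]
    · intro x y _ _ hx hy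
      rw [map_add, add_mul, hx, hy, add_zero]
    · intro x y _ hy
      rw [smul_eq_mul, map_mul, mul_assoc, hy, mul_zero]
  have h1 : ((π a) ⊗ₜ[k] (1 : A ⧸ N) - (1 : A ⧸ N) ⊗ₜ[k] (π a)) ^ n * tb = 0 := by
    have := hkill _ hX
    rw [map_pow, map_sub] at this
    simpa using this
  have h3 : ((π a) ⊗ₜ[k] (1 : A ⧸ N) - (1 : A ⧸ N) ⊗ₜ[k] (π a)) * tb = 0 := by
    apply IsNilpotent.eq_zero
    refine ⟨n, ?_⟩
    obtain ⟨m, rfl⟩ : ∃ m, n = m + 1 := ⟨n - 1, by omega⟩
    rw [mul_pow, pow_succ tb, ← mul_assoc,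
      mul_comm (((π a) ⊗ₜ[k] (1 : A ⧸ N) - (1 : A ⧸ N) ⊗ₜ[k] (π a)) ^ (m + 1)) (tb ^ m),
      mul_assoc, h1, mul_zero]
  -- the `C`-module structure and a retraction
  letI : Algebra C (A ⧸ N) := (g : C →+* A ⧸ N).toAlgebra
  haveI : IsScalarTower k C (A ⧸ N) :=
    IsScalarTower.of_algebraMap_eq (fun r => (g.commutes r).symm)
  have hginj : Function.Injective g := by
    rw [injective_iff_map_eq_zero]
    intro c hc
    have h4 : ψ c ∈ N := Ideal.Quotient.eq_zero_iff_mem.mp hc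
    obtain ⟨m, hm⟩ := mem_nilradical.mp h4
    have h5 : ψ (c ^ m) = ψ 0 := by rw [map_pow, hm, map_zero]
    have h6 : c ^ m = 0 := hψ h5
    exact IsNilpotent.eq_zero ⟨m, h6⟩
  let i : C →ₗ[C] A ⧸ N := Algebra.linearMap C (A ⧸ N)
  have hi : Function.Injective i := hginj
  obtain ⟨W', hW'⟩ := exists_isCompl (LinearMap.range i)
  let τ₀ : A ⧸ N →ₗ[C] C := LinearMap.linearProjOfIsCompl W' i hi hW'
  have hτ₀g : ∀ c : C, τ₀ (g c) = c := fun c => LinearMap.linearProjOfIsCompl_apply_left W' i hi hW' c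
  have hτ₀mul : ∀ (c : C) (b : A ⧸ N), τ₀ (g c * b) = c * τ₀ b := by
    intro c b
    have : g c * b = c • b := by rw [Algebra.smul_def]; rfl
    rw [this, map_smul, smul_eq_mul]
  let τk : A ⧸ N →ₗ[k] A ⧸ N :=
    (g.toLinearMap).comp (τ₀.restrictScalars k)
  let Θ : (A ⧸ N) ⊗[k] (A ⧸ N) →ₗ[k] A ⧸ N :=
    TensorProduct.lift ((LinearMap.mul k (A ⧸ N)).compl₂ τk)
  have hΘ : ∀ x y : A ⧸ N, Θ (x ⊗ₜ[k] y) = x * g (τ₀ y) := fun x y => rfl
  have c1 : ∀ (w : C ⊗[k] C) (b : A ⧸ N),
      Θ ((b ⊗ₜ[k] (1 : A ⧸ N)) * Algebra.TensorProduct.map g g w) =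
        b * g (Algebra.TensorProduct.lmul' k w) := by
    intro w b
    induction w using TensorProduct.induction_on with
    | zero => simp
    | tmul c c' =>
      rw [Algebra.TensorProduct.map_tmul, Algebra.TensorProduct.tmul_mul_tmul, one_mul, hΘ, hτ₀g,
        Algebra.TensorProduct.lmul'_apply_tmul, map_mul, mul_assoc]
    | add w w' hw hw' => rw [map_add, mul_add, map_add, hw, hw', map_add, map_add, mul_add]
  have c2 : ∀ (w : C ⊗[k] C) (b : A ⧸ N),
      Θ (((1 : A ⧸ N) ⊗ₜ[k] b) * Algebra.TensorProduct.map g g w) =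
        g (Algebra.TensorProduct.lmul' k w) * g (τ₀ b) := by
    intro w b
    induction w using TensorProduct.induction_on with
    | zero => simp
    | tmul c c' =>
      rw [Algebra.TensorProduct.map_tmul, Algebra.TensorProduct.tmul_mul_tmul, one_mul, hΘ,
        mul_comm b (g c'), hτ₀mul, Algebra.TensorProduct.lmul'_apply_tmul, map_mul, map_mul, mul_assoc]
    | add w w' hw hw' => rw [map_add, mul_add, map_add, hw, hw', map_add, map_add, add_mul]
  have h4 : (π a) ⊗ₜ[k] (1 : A ⧸ N) * tb = ((1 : A ⧸ N) ⊗ₜ[k] (π a)) * tb := by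
    rw [← sub_eq_zero, ← sub_mul]
    exact h3
  have h5 := congrArg Θ h4
  rw [c1, c2, Algebra.FormallyUnramified.lmul_elem, map_one, mul_one, one_mul] at h5
  refine ⟨τ₀ (π a), ?_⟩
  apply Ideal.Quotient.eq.mp
  exact h5

end star

end Groth.Agent.Lib.Helper6.EtRetr
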