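import Mathlib
import Groth.Agent.Lib.Helper6.EtRetr.ER2

/-!
# Étale quotient with infinitesimal kernel (helper6), part 3

The unique retraction and its kernel.
-/

set_option autoImplicit false
set_option linter.unusedSectionVars false
set_option linter.unusedVariables false
set_option linter.unusedSimpArgs false
set_option linter.style.haveILetI false
set_option linter.overlappingInstances false
set_option maxHeartbeats 800000
set_option synthInstance.maxHeartbeats 400000

universe u
open TensorProduct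

namespace Groth.Agent.Lib.Helper6.EtRetr

variable {k : Type u} [Field k] [PerfectField k] {A C : Type u} [CommRing A] [HopfAlgebra k A]
  [Algebra.FiniteType k A] [CommRing C] [HopfAlgebra k C] [Algebra.Etale k C]

/-- two algebra maps from `A` to a reduced algebra which agree on `ψ(C)` are equal -/
lemma algHom_eq_of_comp_eq (ψ : C →ₐc[k] A)
    (hstar : ∀ a : A, ∃ c : C, a - ψ c ∈ nilradical A)
    {D : Type u} [CommRing D] [Algebra k D] [IsReduced D] (f g : A →ₐ[k] D)
    (hfg : f.comp (ψ : C →ₐ[k] A) = g.comp (ψ : C →ₐ[k] A)) : f = g := by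
  ext a
  obtain ⟨c, hc⟩ := hstar a
  have h1 : ∀ h : A →ₐ[k] D, h a = h (ψ c) := by
    intro h
    have h2 : IsNilpotent (a - ψ c) := mem_nilradical.mp hc
    have h3 : h (a - ψ c) = 0 := (h2.map h).eq_zero
    rw [map_sub, sub_eq_zero] at h3
    exact h3
  rw [h1 f, h1 g]
  exact AlgHom.congr_fun hfg c

theorem retraction (ψ : C →ₐc[k] A) (hψ : Function.Injective ψ)
    (J : Ideal A) [J.IsHopfIdeal k]
    (hJ : J = Ideal.map (ψ : C →+* A) (RingHom.ker (Bialgebra.counitAlgHom k C)))
    [IsLocalRing (A ⧸ J)] :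
    (∃! r : A →ₐc[k] C, r.comp ψ = BialgHom.id k C) ∧
    ∀ r : A →ₐc[k] C, r.comp ψ = BialgHom.id k C →
      RingHom.ker (r : A →+* C) = nilradical A := by
  have hstar := exists_sub_mem_nilradical ψ hψ J hJ
  haveI : IsReduced C := Algebra.FormallyUnramified.isReduced_of_field k C
  haveI : IsReduced (C ⊗[k] C) :=
    Groth.Agent.Lib.Helper5.Misc.HopfNil.isReduced_tensor_of_perfect' k _ _
  -- an algebra retraction
  have hex : ∃ r₀ : A →ₐ[k] C, r₀.comp (ψ : C →ₐ[k] A) = AlgHom.id k C := by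
    set N := nilradical A with hN
    let π : A →ₐ[k] A ⧸ N := Ideal.Quotient.mkₐ k N
    let g : C →ₐ[k] A ⧸ N := π.comp (ψ : C →ₐ[k] A)
    have hginj : Function.Injective g := by
      rw [injective_iff_map_eq_zero]
      intro c hc
      have h4 : ψ c ∈ N := Ideal.Quotient.eq_zero_iff_mem.mp hc
      obtain ⟨m, hm⟩ := mem_nilradical.mp h4
      have h5 : ψ (c ^ m) = ψ 0 := by rw [map_pow, hm, map_zero]
      have h6 : c ^ m = 0 := hψ h5
      exact IsNilpotent.eq_zero ⟨m, h6⟩
    have hgsurj : Function.Surjective g := by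
      intro b
      obtain ⟨a, rfl⟩ := Ideal.Quotient.mk_surjective b
      obtain ⟨c, hc⟩ := hstar a
      exact ⟨c, (Ideal.Quotient.eq.mpr hc).symm⟩
    let e : C ≃ₐ[k] A ⧸ N := AlgEquiv.ofBijective g ⟨hginj, hgsurj⟩
    refine ⟨(e.symm : A ⧸ N →ₐ[k] C).comp π, ?_⟩
    ext c
    show e.symm (g c) = c
    exact e.symm_apply_apply c
  obtain ⟨r₀, hr₀⟩ := hex
  -- it is a bialgebra map
  have hcounit : (Bialgebra.counitAlgHom k C).comp r₀ = Bialgebra.counitAlgHom k A := by
    apply algHom_eq_of_comp_eq ψ hstar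
    rw [AlgHom.comp_assoc, hr₀, AlgHom.comp_id]
    ext c
    show Coalgebra.counit (R := k) c = Coalgebra.counit (R := k) (ψ c)
    rw [CoalgHomClass.counit_comp_apply]
  have hcomul : (Algebra.TensorProduct.map r₀ r₀).comp (Bialgebra.comulAlgHom k A) =
      (Bialgebra.comulAlgHom k C).comp r₀ := by
    apply algHom_eq_of_comp_eq ψ hstar
    rw [AlgHom.comp_assoc, AlgHom.comp_assoc, hr₀, AlgHom.comp_id]
    have h1 : (Bialgebra.comulAlgHom k A).comp (ψ : C →ₐ[k] A) =
        (Algebra.TensorProduct.map (ψ : C →ₐ[k] A) (ψ : C →ₐ[k] A)).comp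
          (Bialgebra.comulAlgHom k C) := by
      ext c
      show Coalgebra.comul (R := k) (ψ c) = _
      rw [← CoalgHomClass.map_comp_comul_apply]
      rfl
    rw [h1, ← AlgHom.comp_assoc, ← Algebra.TensorProduct.map_comp, hr₀,
      Algebra.TensorProduct.map_id, AlgHom.id_comp]
  let r : A →ₐc[k] C := BialgHom.ofAlgHom r₀ hcounit hcomul
  have hr : r.comp ψ = BialgHom.id k C := by
    ext c
    exact AlgHom.congr_fun hr₀ c
  have huniq : ∀ r' : A →ₐc[k] C, r'.comp ψ = BialgHom.id k C → r' = r := by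
    intro r' hr'
    have h1 : (r' : A →ₐ[k] C) = (r : A →ₐ[k] C) := by
      apply algHom_eq_of_comp_eq ψ hstar
      ext c
      have e1 : r' (ψ c) = c := congrArg (fun f : C →ₐc[k] C => f c) hr'
      have e2 : r (ψ c) = c := congrArg (fun f : C →ₐc[k] C => f c) hr
      show r' (ψ c) = r (ψ c)
      rw [e1, e2]
    ext a
    exact AlgHom.congr_fun h1 a
  refine ⟨⟨r, hr, huniq⟩, ?_⟩
  intro r' hr'
  have hr'ψ : ∀ c : C, r' (ψ c) = c := fun c => congrArg (fun f : C →ₐc[k] C => f c) hr'
  apply le_antisymm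
  · intro a ha
    rw [RingHom.mem_ker] at ha
    obtain ⟨c, hc⟩ := hstar a
    have h2 : IsNilpotent (a - ψ c) := mem_nilradical.mp hc
    have h3 : r' (a - ψ c) = 0 := (h2.map r').eq_zero
    rw [map_sub, hr'ψ] at h3
    have ha' : r' a = 0 := ha
    rw [ha', zero_sub, neg_eq_zero] at h3
    rw [h3, map_zero, sub_zero] at hc
    exact hc
  · intro a ha
    rw [RingHom.mem_ker]
    have h2 : IsNilpotent a := mem_nilradical.mp ha
    exact (h2.map r').eq_zero

end Groth.Agent.Lib.Helper6.EtRetr
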